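import Cfsg.Agent.Spor.Fi3159.D0

set_option autoImplicit false
set_option maxRecDepth 100000000
set_option Elab.async false

namespace Cfsg.Agent.Spor.Fi3159

theorem ok0 : Net.okb 12 n0 = true := by decide +kernel

theorem ok1 : Net.okb 12 n1 = true := by decide +kernel

theorem ok2 : Net.okb 12 n2 = true := by decide +kernel

theorem ok3 : Net.okb 12 n3 = true := by decide +kernel

theorem ok4 : Net.okb 12 n4 = true := by decide +kernel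

theorem ok5 : Net.okb 12 n5 = true := by decide +kernel

theorem ok6 : Net.okb 12 n6 = true := by decide +kernel

theorem ok7 : Net.okb 12 n7 = true := by decide +kernel

theorem rel0 : T.rel 12 [1, 1] 0 12 = true := by decide +kernel

theorem rel1 : T.rel 12 [2, 2] 0 12 = true := by decide +kernel

theorem rel2 : T.rel 12 [3, 3] 0 12 = true := by decide +kernel

theorem rel3 : T.rel 12 [4, 4] 0 12 = true := by decide +kernel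

theorem rel4 : T.rel 12 [5, 5] 0 12 = true := by decide +kernel

theorem rel5 : T.rel 12 [6, 6] 0 12 = true := by decide +kernel

theorem rel6 : T.rel 12 [7, 7] 0 12 = true := by decide +kernel

theorem rel7 : T.rel 12 [8, 8] 0 12 = true := by decide +kernel

theorem rel8 : T.rel 12 [2, 1, 2, 1, 2, 1] 0 12 = true := by decide +kernel

theorem rel9 : T.rel 12 [3, 1, 3, 1] 0 12 = true := by decide +kernel

theorem rel10 : T.rel 12 [4, 1, 4, 1] 0 12 = true := by decide +kernel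

theorem rel11 : T.rel 12 [5, 1, 5, 1] 0 12 = true := by decide +kernel

theorem rel12 : T.rel 12 [6, 1, 6, 1] 0 12 = true := by decide +kernel

theorem rel13 : T.rel 12 [7, 1, 7, 1] 0 12 = true := by decide +kernel

theorem rel14 : T.rel 12 [8, 1, 8, 1] 0 12 = true := by decide +kernel

theorem rel15 : T.rel 12 [3, 2, 3, 2, 3, 2] 0 12 = true := by decide +kernel

theorem rel16 : T.rel 12 [4, 2, 4, 2] 0 12 = true := by decide +kernel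

theorem rel17 : T.rel 12 [5, 2, 5, 2] 0 12 = true := by decide +kernel

theorem rel18 : T.rel 12 [6, 2, 6, 2] 0 12 = true := by decide +kernel

theorem rel19 : T.rel 12 [7, 2, 7, 2] 0 12 = true := by decide +kernel

theorem rel20 : T.rel 12 [8, 2, 8, 2] 0 12 = true := by decide +kernel

theorem rel21 : T.rel 12 [4, 3, 4, 3, 4, 3] 0 12 = true := by decide +kernel

theorem rel22 : T.rel 12 [5, 3, 5, 3] 0 12 = true := by decide +kernel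

theorem rel23 : T.rel 12 [6, 3, 6, 3] 0 12 = true := by decide +kernel

theorem rel24 : T.rel 12 [7, 3, 7, 3, 7, 3] 0 12 = true := by decide +kernel

theorem rel25 : T.rel 12 [8, 3, 8, 3] 0 12 = true := by decide +kernel

theorem rel26 : T.rel 12 [5, 4, 5, 4, 5, 4] 0 12 = true := by decide +kernel

theorem rel27 : T.rel 12 [6, 4, 6, 4] 0 12 = true := by decide +kernel

theorem rel28 : T.rel 12 [7, 4, 7, 4] 0 12 = true := by decide +kernel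

theorem rel29 : T.rel 12 [8, 4, 8, 4] 0 12 = true := by decide +kernel

theorem rel30 : T.rel 12 [6, 5, 6, 5, 6, 5] 0 12 = true := by decide +kernel

theorem rel31 : T.rel 12 [7, 5, 7, 5] 0 12 = true := by decide +kernel

theorem rel32 : T.rel 12 [8, 5, 8, 5] 0 12 = true := by decide +kernel

theorem rel33 : T.rel 12 [7, 6, 7, 6] 0 12 = true := by decide +kernel

theorem rel34 : T.rel 12 [8, 6, 8, 6] 0 12 = true := by decide +kernel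

theorem rel35 : T.rel 12 [8, 7, 8, 7, 8, 7] 0 12 = true := by decide +kernel

theorem rel36 : T.rel 12 [8, 7, 3, 5, 4, 3, 1, 2, 3, 8, 7, 3, 5, 4, 3, 1, 2, 3, 8, 7, 3, 5, 4, 3, 1, 2, 3, 8, 7, 3, 5, 4, 3, 1, 2, 3, 8, 7, 3, 5, 4, 3, 1, 2, 3, 8, 7, 3, 5, 4, 3, 1, 2, 3, 8, 7, 3, 5, 4, 3, 1, 2, 3, 8, 7, 3, 5, 4, 3, 1, 2, 3, 8, 7, 3, 5, 4, 3, 1, 2, 3, 8, 7, 3, 5, 4, 3, 1, 2, 3] 0 12 = true := by decide +kernel

theorem hcov : T.treeCov (ones 3159) L 1 = true := by decide +kernel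

theorem hg : lall (fun z => band (memL L z) (band (sub (ones 3159) (T.let z).cl) (T.closed (ones 3159) z))) gs = true := by decide +kernel

theorem hivk : ivOk (2 * 8) EX IV = true := by decide +kernel

theorem hrt : RT.ok (2 * 8) EX RL = true := by decide +kernel

theorem hdefs : defs F 382 = true := by decide +kernel

noncomputable def st0_l : List Nat := [nat_lit 0x3ff, nat_lit 0x3ff, nat_lit 0x3ff, nat_lit 0x3ff, nat_lit 0x3ff, nat_lit 0x3ff, nat_lit 0x17e80000403, nat_lit 0x17f80000403, nat_lit 0x18080000403, nat_lit 0x18180000403, nat_lit 0x18280000403, nat_lit 0x800000003070000080000c05, nat_lit 0x20018480000c03, nat_lit 0x20018580000c03, nat_lit 0x20018780000c03, nat_lit 0x20018880000c03, nat_lit 0x10000040030d0000180001405, nat_lit 0x40018a80001403, nat_lit 0x40018d80001403, nat_lit 0x40018980001403, nat_lit 0x1800008003170000280001c05,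 nat_lit 0x2000008003190000280002405, nat_lit 0xc0000300002403, nat_lit 0x60019080001c03, nat_lit 0x60018e80001c03, nat_lit 0x60019180001c03, nat_lit 0x280000c0031f0000380002c05, nat_lit 0x80018e80002403, nat_lit 0x80019180002403, nat_lit 0xa0019280002c03, nat_lit 0x100000500003403, nat_lit 0xa0019580002c03, nat_lit 0xa0019680002c03, nat_lit 0xa0019780002c03, nat_lit 0x50000180032b0000680005405, nat_lit 0xe0019400005403, nat_lit 0xe0019380003c03, nat_lit 0xe0019980003c03, nat_lit 0xe0019a80003c03, nat_lit 0x100019880004403, nat_lit 0x100019e80004403, nat_lit 0x100019f80004403, nat_lit 0x5800020003370000880005c05, nat_lit 0x60000200033b0000880006405, nat_lit 0x120019c00005c03, nat_lit 0x1a0000900005403, nat_lit 0x4800652003270019400004c05, nat_lit 0x140019c00006403, nat_lit 0x1e0000b00006403, nat_lit 0x16001a780005c03, nat_lit 0x700002c0034b0000b80007405,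 nat_lit 0x18001a680006403, nat_lit 0x1a001aa80007c03, nat_lit 0x1a001ac80006c03, nat_lit 0x1c001a880007403, nat_lit 0x220000e00007c03, nat_lit 0x1c001af80007403, nat_lit 0x70006a800359001aa80007405, nat_lit 0x1e001af80007c03, nat_lit 0x980003c003510000f80009c05, nat_lit 0x20001b280009c03, nat_lit 0x20001b380008403, nat_lit 0x80006ae00341001ab00008405, nat_lit 0x22001b780008c03, nat_lit 0x22001b080008c03, nat_lit 0x2e0001100009403, nat_lit 0x22001b680008c03, nat_lit 0xb00004400369000118000b405, nat_lit 0x26001b50000b403, nat_lit 0x32000130000a403, nat_lit 0x26001b880009c03, nat_lit 0x98006ba00353001ae00009c05, nat_lit 0xa0006ba00363001ae0000a405, nat_lit 0x2a001ba8000cc03, nat_lit 0x2a001bb8000ac03, nat_lit 0xd00005400379000158000d405, nat_lit 0x2c001bd8000b403, nat_lit 0x3a000160000bc03, nat_lit 0x2c001c08000b403, nat_lit 0xd8000580037d000168000dc05,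 nat_lit 0xf00005c0037d000178000f405, nat_lit 0x30001bf0000f403, nat_lit 0x32001c28000ec03, nat_lit 0x32001b98000cc03, nat_lit 0x34001c780010403, nat_lit 0x36001ca8000dc03, nat_lit 0x36001c18000dc03, nat_lit 0x36001cc8000dc03, nat_lit 0xd8007080038b001c28000dc05, nat_lit 0x1600008c000360001d80012c05, nat_lit 0x480001c0000ec03, nat_lit 0x3a001ca8000ec03, nat_lit 0x3a001c18000ec03, nat_lit 0x13000074003990001d80013405, nat_lit 0x13800078003960002580018405, nat_lit 0x1400007c0039f0002780019405, nat_lit 0x40001d180010403, nat_lit 0x540002000010c03, nat_lit 0x14800080003a10002580017c05, nat_lit 0x1000070e0038d001c300010405, nat_lit 0x44001c980011403, nat_lit 0x15800088003a5000298001ac05, nat_lit 0x46001d380011c03, nat_lit 0x46001d680011c03, nat_lit 0x1680008c003ab0002380016c05, nat_lit 0x4a001d980012c03, nat_lit 0x4a001da80012c03, nat_lit 0x4a001d800017403,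 nat_lit 0x620002500013403, nat_lit 0x4e001ce80013c03, nat_lit 0x52001e180014c03, nat_lit 0x52001de80014c03, nat_lit 0x6c0002900015403, nat_lit 0x56001e280015c03, nat_lit 0x58001e480016403, nat_lit 0x720002c00016c03, nat_lit 0x1c0000b0003cb0002c8001c405, nat_lit 0x780002f00018403, nat_lit 0x5e001e880017c03, nat_lit 0x5e001e98001d403, nat_lit 0x5e001d70001c403, nat_lit 0x7a0002f00018c03, nat_lit 0x1d8000bc003cf0002f8001dc05, nat_lit 0x60001e780018403, nat_lit 0x7e0003000018c03, nat_lit 0x64001dc8001f403, nat_lit 0x64001eb80019403, nat_lit 0x820003200019c03, nat_lit 0x66001dc8001fc03, nat_lit 0x68001dd80020c03, nat_lit 0x6a001e08001dc03, nat_lit 0x6a001ec8001ac03, nat_lit 0x6a001ed8001ac03, nat_lit 0x88000350001b403, nat_lit 0x6c001e08001ec03, nat_lit 0x6e001e380022403, nat_lit 0x230000dc003df0003780023405, nat_lit 0x90000380001cc03, nat_lit 0x238000e0003e10003880023c05,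 nat_lit 0x980003b0001e403, nat_lit 0x76001f580025403, nat_lit 0x76001f680023c03, nat_lit 0x9a0003b0001ec03, nat_lit 0x78001f580025c03, nat_lit 0x1e000780003d9001e08001e405, nat_lit 0x7a001f48001ec03, nat_lit 0x280000f4003ed000488002dc05, nat_lit 0x7c001f300027403, nat_lit 0x7e001f300027c03, nat_lit 0x80001f700028403, nat_lit 0x80001fa00029403, nat_lit 0x200007aa003b7001ea00020405, nat_lit 0x82001fb80028c03, nat_lit 0x29800104003f90004180029c05, nat_lit 0x84001fd00029c03, nat_lit 0x2a000108003fd0005280033405, nat_lit 0x86001ff80029c03, nat_lit 0x880020080026c03, nat_lit 0x880020180022403, nat_lit 0x880020280022403, nat_lit 0x8a002030002b403, nat_lit 0x2b800114004090005080032405, nat_lit 0x8c002058002b403, nat_lit 0xb40004700024403, nat_lit 0x90001f280024403, nat_lit 0x92002070002dc03, nat_lit 0x248007c6003cd001f100024c05, nat_lit 0xb80004a00025c03,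 nat_lit 0x980020b8002cc03, nat_lit 0xc00004c00026c03, nat_lit 0x26000800004030020080026405, nat_lit 0x9a001f880026c03, nat_lit 0x9a0020a8002ec03, nat_lit 0x30800134004170005a80036c05, nat_lit 0xc40004e00027c03, nat_lit 0x9e0020900030403, nat_lit 0x9e0020d8002f403, nat_lit 0xa00020f80028403, nat_lit 0xa20021180031403, nat_lit 0xa40021280031c03, nat_lit 0x3380014c0042d000658003c405, nat_lit 0xa80021880033c03, nat_lit 0x3480015400435000678003dc05, nat_lit 0xac0021c8002b403, nat_lit 0x3500015800437000618003a405, nat_lit 0xae0021e80035403, nat_lit 0xb0002068002c403, nat_lit 0xb4002088002d403, nat_lit 0xb60022100036c03, nat_lit 0x3700016c004450005b80037405, nat_lit 0xde0005c0002ec03, nat_lit 0xbc0022500037c03, nat_lit 0xbe002288002fc03, nat_lit 0xbe0022680036403, nat_lit 0xe40005f00030403, nat_lit 0xc20022980030c03, nat_lit 0xc20022700039c03, nat_lit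 0xc20022a80038403, nat_lit 0xc60022d80039c03, nat_lit 0xc60022c0003ac03, nat_lit 0xc60022e80038c03, nat_lit 0xc80022f80032403, nat_lit 0xc80021080037403, nat_lit 0x3200084c0042b0021380032405, nat_lit 0xca002308003ac03, nat_lit 0x3c800198004630007680043c05, nat_lit 0x330008500042b0021480033405, nat_lit 0xce0021780033c03, nat_lit 0xd0002338003d403, nat_lit 0xd0002198003cc03, nat_lit 0xd60021f8003bc03, nat_lit 0xda0023980036c03, nat_lit 0xdc0023a8003ec03, nat_lit 0x3700088c004490022380037405, nat_lit 0xe00023c0003fc03, nat_lit 0xe20023d8003fc03, nat_lit 0xe40023e80039403, nat_lit 0x410001c80047f0007c80045405, nat_lit 0xe60024000041403, nat_lit 0xe80024380040403, nat_lit 0xe80022b8003ec03, nat_lit 0x420001d0004830007480042405, nat_lit 0x428001d0004850008380049c05, nat_lit 0xec0024480041c03, nat_lit 0xec0024580043403, nat_lit 0xec0024680040c03,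 nat_lit 0xee002498003bc03, nat_lit 0xee002488003f403, nat_lit 0x448001dc0048f0007780044c05, nat_lit 0xf20024c8003cc03, nat_lit 0xf40024d8003d403, nat_lit 0x458001f4004a30007d80045c05, nat_lit 0xfc0023b8003f403, nat_lit 0x47000200004a90008d8004bc05, nat_lit 0x1020025580046c03, nat_lit 0x1060025880048c03, nat_lit 0x1080025a80045c03, nat_lit 0x10a0025980047403, nat_lit 0x12a0008700044403, nat_lit 0x10e0025f80047c03, nat_lit 0x1100025d80049c03, nat_lit 0x1120026080044c03, nat_lit 0x1120026180046403, nat_lit 0x45800948004a70025280045c05, nat_lit 0x1180026680046403, nat_lit 0x1320008f00048403, nat_lit 0x120002688004bc03, nat_lit 0x122002578004b403, nat_lit 0x124002698004d403, nat_lit 0x1280026d8004c403, nat_lit 0x13a000980004cc03, nat_lit 0x134002758004e403, nat_lit 0x13c002388004f403, nat_lit 0x13e0027a8004fc03, nat_lit 0x4f800278000b00022080035405,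 nat_lit 0x108002360013e003, nat_lit 0x1400027b80050403, nat_lit 0x142000a00013e403, nat_lit 0xd6002378013f803, nat_lit 0x10a002360013f803, nat_lit 0x13fc001a80046a0006a8013f805, nat_lit 0x1440027e80051403, nat_lit 0x5100028600505000a100051405, nat_lit 0x14a000a180140803, nat_lit 0x14a000a00013e803, nat_lit 0x14c000a100051c03, nat_lit 0x14c0028280053403, nat_lit 0x14e000a100052403, nat_lit 0x14e0028100135c03, nat_lit 0x1500028480054403, nat_lit 0x150000a200051c03, nat_lit 0x1500028380054403, nat_lit 0x1520028480054c03, nat_lit 0x154000a300052c03, nat_lit 0x1560028900145403, nat_lit 0x156000a400052c03, nat_lit 0x56000a1a004b70028600056405, nat_lit 0x15a0028680135403, nat_lit 0x15c000a600140003, nat_lit 0x112002500014a003, nat_lit 0x15e000ae8014a803, nat_lit 0x15e0028780055403, nat_lit 0x15e000a600140803, nat_lit 0x1600028b80058403, nat_lit 0x588002a400144000a580056405,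 nat_lit 0x1640028f80056403, nat_lit 0x1660028f80056c03, nat_lit 0x1680029180056403, nat_lit 0x16a002928005ac03, nat_lit 0x16c002988012e403, nat_lit 0x5b0002bc00511000af8005b405, nat_lit 0x5b8002c000519000aa80059405, nat_lit 0x5c0002c00051b000b08005c405, nat_lit 0x1720029a8005ac03, nat_lit 0x5c8002c40051d000b18005cc05, nat_lit 0x1740029b8005ac03, nat_lit 0x176000b200059c03, nat_lit 0x1780029d8005ac03, nat_lit 0x17a0029e8005ec03, nat_lit 0x5f0002d400158002858012e405, nat_lit 0x1240009380154803, nat_lit 0x17e000b60014b403, nat_lit 0x17e0029f80137003, nat_lit 0x1800029f80154803, nat_lit 0x180002a080060403, nat_lit 0x600002d80052f000b28005d405, nat_lit 0x60800a7e00126002698004dc05, nat_lit 0x184002a18005d403, nat_lit 0x610002dc00533000b780061405, nat_lit 0x186000b70005c403, nat_lit 0x188002a480062403, nat_lit 0x188002a38005ec03, nat_lit 0x63000a960053d002a500063405,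 nat_lit 0x190002a78005ec03, nat_lit 0x648002f0001680029080133c05, nat_lit 0x194000bd0005f403, nat_lit 0x65000ad400569002b580065405, nat_lit 0x196002ac80136003, nat_lit 0x65800aae004df002ab00065c05, nat_lit 0x198000bf00060c03, nat_lit 0x66000aae004c5002ab00066405, nat_lit 0x19a002ab80138403, nat_lit 0x19c002ad8015c803, nat_lit 0x19c002ae80067403, nat_lit 0x19e000c000060c03, nat_lit 0x19e002ae80067c03, nat_lit 0x1a2002b280068c03, nat_lit 0x1a2002b180062c03, nat_lit 0x1a4000c200061c03, nat_lit 0x69800ace00545002b300069c05, nat_lit 0x6980030c00543000bb80063c05, nat_lit 0x1a8000c500063403, nat_lit 0x1aa002b68006ac03, nat_lit 0x1ac000c800064c03, nat_lit 0x1ac002b780065403, nat_lit 0x13c4009ce004e9002b800165805, nat_lit 0x1ae002cc00166803, nat_lit 0x6b800ae6005530026e00136005, nat_lit 0x4ef0009d80167003, nat_lit 0x1b0002b980155003, nat_lit 0x1b0000d780168003,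 nat_lit 0x1b0002ba8006c403, nat_lit 0x6c00032800551000ca8006c405, nat_lit 0x1b2002bc8006cc03, nat_lit 0x1b2002bb80167803, nat_lit 0x1b4000cb00066403, nat_lit 0x1b6002bd80158403, nat_lit 0x1b6002be8006dc03, nat_lit 0x6d80033000559000880012f405, nat_lit 0x1b8002bd80068403, nat_lit 0x1b8000cc00066c03, nat_lit 0x6e800afe004e5002bf0006ec05, nat_lit 0x1bc000ce00067c03, nat_lit 0x1bc002c18006f403, nat_lit 0x6f80033c0055f000c68006ac05, nat_lit 0x1c0002c280158403, nat_lit 0x1c2002c280068403, nat_lit 0x1c6002c58006a403, nat_lit 0x1c8000d100069403, nat_lit 0x1ca002c680069c03, nat_lit 0x1cc002c98006ac03, nat_lit 0x1d0002d18013b403, nat_lit 0x1d0002d480074403, nat_lit 0x1d0002d380074403, nat_lit 0x1d2000d90006d403, nat_lit 0x1d6002d78006dc03, nat_lit 0x1d8000db0006e403, nat_lit 0x1da002db80071403, nat_lit 0x1da002dc8006ec03, nat_lit 0x1dc002de8006fc03,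 nat_lit 0x1de002df80077c03, nat_lit 0x7780037800581000d880074405, nat_lit 0x1e2000df00070403, nat_lit 0x78800b8200595002e000078c05, nat_lit 0x1e4000df00070c03, nat_lit 0x1e4002e080073c03, nat_lit 0x1e6002e280071403, nat_lit 0x7980038400587000e180079c05, nat_lit 0x7a00038c00589000e38007a405, nat_lit 0x1ea000e300072403, nat_lit 0x1ec002e480072c03, nat_lit 0x1f0002e680073c03, nat_lit 0x1f4000e800169403, nat_lit 0x1f4002e98007d403, nat_lit 0x1f6002e78013cc03, nat_lit 0x1f6002e88007dc03, nat_lit 0x1f8002ea80075403, nat_lit 0x7e0003a4005ab000e98007e405, nat_lit 0x1fa002ea80075c03, nat_lit 0x7e8003a4005ad002d00017e005, nat_lit 0x1fc000ea00075c03, nat_lit 0x1fe0030200181c03, nat_lit 0x1fe002eb8016d403, nat_lit 0x7f8003ac001b4002bb8004a805, nat_lit 0x200002ec80076c03, nat_lit 0x80800bba005bb002ee00080c05, nat_lit 0x206002ef80078c03, nat_lit 0x206000ee00077c03,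 nat_lit 0x20a000ee00078403, nat_lit 0x20c002f18007dc03, nat_lit 0x20c000ef00078403, nat_lit 0x20e002f380083c03, nat_lit 0x20e000f100079403, nat_lit 0x210002f58007cc03, nat_lit 0x212002f780084c03, nat_lit 0x214002f880085403, nat_lit 0x850003d0005c7000e68007bc05, nat_lit 0x216000f40007ac03, nat_lit 0x218002f98007b403, nat_lit 0x21e002fb8007cc03, nat_lit 0x888003e8005d1000fa80088c05, nat_lit 0x224003008007f403, nat_lit 0x224000fc0007ec03, nat_lit 0x2280030580088c03, nat_lit 0x2280030780125803, nat_lit 0x8a000c1a0010c0024a0003c405, nat_lit 0x49c0024f8018e003, nat_lit 0x22a0030880080c03, nat_lit 0x22c0010200081c03, nat_lit 0x22e0010200082403, nat_lit 0x8c000c2e005e10030b0008c405, nat_lit 0x2320030a80083c03, nat_lit 0x2380030f8008e403, nat_lit 0x2380031080084403, nat_lit 0x8e800420005e9000f380084c05, nat_lit 0x23c0031480087403, nat_lit 0x23c003138008f403,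 nat_lit 0x91000438001ee000f880087c05, nat_lit 0x2460031780088403, nat_lit 0x24a0031880092c03, nat_lit 0x24c0031b0018e403, nat_lit 0x6590026300196003, nat_lit 0x9280049a0065a0012600092c05, nat_lit 0x24e0031b0018f003, nat_lit 0x93800444005fb0011180093c05, nat_lit 0x65f0026400197803, nat_lit 0x2500031980089c03, nat_lit 0x94000c6a006070011180092c05, nat_lit 0x94000448006030011280094405, nat_lit 0x9480044c00609000ff8008a405, nat_lit 0x256003208008c403, nat_lit 0x256001160008bc03, nat_lit 0x258003208008cc03, nat_lit 0x25c003218008d403, nat_lit 0x25e003238008e403, nat_lit 0x9800046800208001058008dc05, nat_lit 0x262003258008ec03, nat_lit 0x99000474006230011080092405, nat_lit 0x2660032880099c03, nat_lit 0x99800478002140010b8008fc05, nat_lit 0x9a00047c0062b0010c80090405, nat_lit 0x9a8004800062d0010d80090c05, nat_lit 0x26e0032980091c03, nat_lit 0x2720032a80092403,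 nat_lit 0x2740032b8009d403, nat_lit 0x2740012500093c03, nat_lit 0x2740032e8009d403, nat_lit 0x68b00331001a2803, nat_lit 0x2760033280095403, nat_lit 0x278003358018ec03, nat_lit 0xf600232801a4803, nat_lit 0x27a0013c801a5003, nat_lit 0x27e0033780096c03, nat_lit 0x9f800cda00645003360009fc05, nat_lit 0x2820033880097c03, nat_lit 0x2840012d00097403, nat_lit 0x2860033980098403, nat_lit 0x2880033a80098c03, nat_lit 0x28c0033f8009a403, nat_lit 0xa30004cc0064f001228009bc05, nat_lit 0x28e003408009ac03, nat_lit 0x290003418009b403, nat_lit 0x292003428009c403, nat_lit 0x294001380009cc03, nat_lit 0x29600346800a5c03, nat_lit 0xa5800d160066100345000a5c05, nat_lit 0x298003488009f403, nat_lit 0xa60004ec006670013a800a5c05, nat_lit 0xa68004f4002520012a8009f405, nat_lit 0x29e0034d800a7c03, nat_lit 0x29e0013f000a0403, nat_lit 0x29e0034c800a1403, nat_lit 0xa8000500002560012c800a0c05,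 nat_lit 0x2ac00353800a4c03, nat_lit 0x2ae00352800a3c03, nat_lit 0xab8005180067d00146800abc05, nat_lit 0x2b000354800a4403, nat_lit 0x2b200356800a5403, nat_lit 0x2b600359800adc03, nat_lit 0x2b600358800adc03, nat_lit 0xad80052c006890014b800adc05, nat_lit 0x2b80035b800adc03, nat_lit 0x2ba0035c800a7403, nat_lit 0x2c00035d800b0403, nat_lit 0x2c00035f800a9403, nat_lit 0x2c200360800a8c03, nat_lit 0xb10005440069d00144800aa405, nat_lit 0xb18005480069f00143800a9c05, nat_lit 0xb200054c006a100145800aac05, nat_lit 0x2ce00156000abc03, nat_lit 0x2ce00361800acc03, nat_lit 0x2d000363800b4403, nat_lit 0x2d000362800ac403, nat_lit 0x2d200365800ad403, nat_lit 0x2d400368800b5403, nat_lit 0x2d400366800b5403, nat_lit 0x2d400367800b5403, nat_lit 0x2d600369800b5403, nat_lit 0xb5800570006b50014e800af405, nat_lit 0xb60005740029a0034b8011a005, nat_lit 0x2da0015e000afc03,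 nat_lit 0x2dc0036c800b1c03, nat_lit 0xb7000580006bd00150800b0c05, nat_lit 0x2de0036d800b1403, nat_lit 0x2e00036f800b2403, nat_lit 0x2e200370800b2c03, nat_lit 0x2e600166000b3c03, nat_lit 0x2ea00371800b4403, nat_lit 0x2ee0037a800b6c03, nat_lit 0x2f00037d800b8403, nat_lit 0x2f00037e800b7c03, nat_lit 0xbc0005b8006d70016e800bc405, nat_lit 0x2f200380800b9403, nat_lit 0x2f400171000b9403, nat_lit 0x2f600382800bac03, nat_lit 0x2f800174000bac03, nat_lit 0xbe8005d0006e500169800bb405, nat_lit 0xbd000e06002ca00155000a2800cee002360030c80187000c36005fe002fe8004e000258004ae000820012b0009020044f0021b00101c007ba003bf000210000c8007140037200013000d74006b400342001a2000d200068c003440000700002000008003140018b000014006440031c00002000c6800630000050018f00001c006480032e00196000c90006540000d00009800d540003a00360001b6000094000620039f00027800ee4007e4003e60020e00027c0018e000ed0025e8016d000b64005b1002e10017900041e00239001318019e4004ca0067b00343001ab80056a006ea00176801c6059,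 nat_lit 0x2f80017d801c6803, nat_lit 0x71100389001c7003, nat_lit 0x7150038b001c7803, nat_lit 0x177001bcc00dd8006f000377001bb0005a8002b60014b001a38004e8006660033400094000c6a00605002eb8016c8003b200201001158018fc00c2400202002ed8017b00042600624003260008e800c940064800131801a8800552006dc0037f001c3000e1c0070b00179801c8000e2a0070700373801ba400d92006ab0013600090800434005f5002e580163c00b220018e002a68014e400a4e004cb00271800458001f400456000610010d800876004390021b801064007de003d5000260000e80006e003a9001cd8000d80072a00384001c5800e240006600041001de800f0c000800038e001c88000d45a, nat_lit 0x7080039180011403, nat_lit 0x6f80039280015c03, nat_lit 0x2bf003938001bc03, nat_lit 0x6d50039480023403, nat_lit 0x2d8003958002c403, nat_lit 0x13c00396001bdc03, nat_lit 0x9e801cbc02]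
theorem st0 : band (steps F IV RT base st0_l 382) (Nat.beq (Nat.add 382 (llen st0_l)) 921) = true := by decide +kernel

theorem rot1_1 : T.rot 1 [1] (sel (ones 3159) ip1 1) = true := by decide +kernel

theorem rot1_1r : band (Rule.ok (2 * 8) EX RL ⟨1 :: [1], [], 29, false⟩) (lall (memL L) [1]) = true := by decide +kernel

theorem rot1_2 : T.rot 1 [3, 1, 3] (sel (ones 3159) ip1 2) = true := by decide +kernel

theorem rot1_2r : band (Rule.ok (2 * 8) EX RL ⟨1 :: [3, 1, 3], [], 1, false⟩) (lall (memL L) [3, 1, 3]) = true := by decide +kernel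

theorem rot1_3 : T.rot 1 [4, 1, 4] (sel (ones 3159) ip1 3) = true := by decide +kernel

theorem rot1_3r : band (Rule.ok (2 * 8) EX RL ⟨1 :: [4, 1, 4], [], 2, false⟩) (lall (memL L) [4, 1, 4]) = true := by decide +kernel

theorem rot1_4 : T.rot 1 [5, 1, 5] (sel (ones 3159) ip1 4) = true := by decide +kernel

theorem rot1_4r : band (Rule.ok (2 * 8) EX RL ⟨1 :: [5, 1, 5], [], 3, false⟩) (lall (memL L) [5, 1, 5]) = true := by decide +kernel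

theorem rot1_5 : T.rot 1 [6, 1, 6] (sel (ones 3159) ip1 5) = true := by decide +kernel

theorem rot1_5r : band (Rule.ok (2 * 8) EX RL ⟨1 :: [6, 1, 6], [], 4, false⟩) (lall (memL L) [6, 1, 6]) = true := by decide +kernel

theorem rot1_6 : T.rot 1 [7, 1, 7] (sel (ones 3159) ip1 6) = true := by decide +kernel

theorem rot1_6r : band (Rule.ok (2 * 8) EX RL ⟨1 :: [7, 1, 7], [], 5, false⟩) (lall (memL L) [7, 1, 7]) = true := by decide +kernel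

theorem rot1_7 : T.rot 1 [8, 1, 8] (sel (ones 3159) ip1 7) = true := by decide +kernel

theorem rot1_7r : band (Rule.ok (2 * 8) EX RL ⟨1 :: [8, 1, 8], [], 6, false⟩) (lall (memL L) [8, 1, 8]) = true := by decide +kernel

theorem rot1_8 : T.rot 1 [2, 1, 2, 1, 2] (sel (ones 3159) ip1 8) = true := by decide +kernel

theorem rot1_8r : band (Rule.ok (2 * 8) EX RL ⟨1 :: [2, 1, 2, 1, 2], [], 0, false⟩) (lall (memL L) [2, 1, 2, 1, 2]) = true := by decide +kernel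

theorem rot1_9 : T.rot 1 [2, 3, 8, 7, 3, 5, 4, 3, 1, 2, 3, 8, 7, 3, 5, 4, 3, 1, 2, 3, 8, 7, 3, 5, 4, 3, 1, 2, 3, 8, 7, 3, 5, 4, 3, 1, 2, 3, 8, 7, 3, 5, 4, 3, 1, 2, 3, 8, 7, 3, 5, 4, 3, 1, 2, 3, 8, 7, 3, 5, 4, 3, 1, 2, 3, 8, 7, 3, 5, 4, 3, 1, 2, 3, 8, 7, 3, 5, 4, 3, 1, 2, 3, 8, 7, 3, 5, 4, 3] (sel (ones 3159) ip1 9) = true := by decide +kernel

theorem rot1_9r : band (Rule.ok (2 * 8) EX RL ⟨1 :: [2, 3, 8, 7, 3, 5, 4, 3, 1, 2, 3, 8, 7, 3, 5, 4, 3, 1, 2, 3, 8, 7, 3, 5, 4, 3, 1, 2, 3, 8, 7, 3, 5, 4, 3, 1, 2, 3, 8, 7, 3, 5, 4, 3, 1, 2, 3, 8, 7, 3, 5, 4, 3, 1, 2, 3, 8, 7, 3, 5, 4, 3, 1, 2, 3, 8, 7, 3, 5, 4, 3, 1, 2, 3, 8, 7, 3, 5, 4, 3, 1, 2, 3, 8, 7, 3, 5, 4, 3], [4, 2, 0], 28, true⟩) (lall (memL L) [2, 3, 8, 7, 3, 5, 4, 3, 1, 2, 3, 8, 7, 3, 5, 4, 3, 1, 2, 3, 8, 7, 3, 5, 4, 3, 1, 2, 3, 8, 7, 3, 5, 4, 3, 1, 2, 3, 8, 7, 3, 5, 4, 3, 1, 2, 3, 8, 7,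 3, 5, 4, 3, 1, 2, 3, 8, 7, 3, 5, 4, 3, 1, 2, 3, 8, 7, 3, 5, 4, 3, 1, 2, 3, 8, 7, 3, 5, 4, 3, 1, 2, 3, 8, 7, 3, 5, 4, 3]) = true := by decide +kernel

theorem rot1_10 : T.rot 1 [3, 4, 5, 3, 7, 8, 3, 2, 1, 3, 4, 5, 3, 7, 8, 3, 2, 1, 3, 4, 5, 3, 7, 8, 3, 2, 1, 3, 4, 5, 3, 7, 8, 3, 2, 1, 3, 4, 5, 3, 7, 8, 3, 2, 1, 3, 4, 5, 3, 7, 8, 3, 2, 1, 3, 4, 5, 3, 7, 8, 3, 2, 1, 3, 4, 5, 3, 7, 8, 3, 2, 1, 3, 4, 5, 3, 7, 8, 3, 2, 1, 3, 4, 5, 3, 7, 8, 3, 2] (sel (ones 3159) ip1 10) = true := by decide +kernel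

theorem rot1_10r : band (Rule.ok (2 * 8) EX RL ⟨1 :: [3, 4, 5, 3, 7, 8, 3, 2, 1, 3, 4, 5, 3, 7, 8, 3, 2, 1, 3, 4, 5, 3, 7, 8, 3, 2, 1, 3, 4, 5, 3, 7, 8, 3, 2, 1, 3, 4, 5, 3, 7, 8, 3, 2, 1, 3, 4, 5, 3, 7, 8, 3, 2, 1, 3, 4, 5, 3, 7, 8, 3, 2, 1, 3, 4, 5, 3, 7, 8, 3, 2, 1, 3, 4, 5, 3, 7, 8, 3, 2, 1, 3, 4, 5, 3, 7, 8, 3, 2], [4, 2], 28, false⟩) (lall (memL L) [3, 4, 5, 3, 7, 8, 3, 2, 1, 3, 4, 5, 3, 7, 8, 3, 2, 1, 3, 4, 5, 3, 7, 8, 3, 2, 1, 3, 4, 5, 3, 7, 8, 3, 2, 1, 3, 4, 5, 3, 7, 8, 3, 2, 1, 3, 4, 5, 3, 7, 8, 3, 2, 1, 3, 4, 5, 3, 7, 8, 3, 2, 1, 3, 4, 5, 3, 7, 8, 3, 2, 1, 3, 4, 5, 3, 7, 8, 3, 2, 1, 3, 4, 5, 3, 7, 8, 3, 2]) = true := by decide +kernel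

theorem cov1 : T.cover 1 [(sel (ones 3159) ip1 1), (sel (ones 3159) ip1 2), (sel (ones 3159) ip1 3), (sel (ones 3159) ip1 4), (sel (ones 3159) ip1 5), (sel (ones 3159) ip1 6), (sel (ones 3159) ip1 7), (sel (ones 3159) ip1 8), (sel (ones 3159) ip1 9), (sel (ones 3159) ip1 10), 1] = true := by decide +kernel

theorem tl1 : T.treeLt 12 1 = true := by decide +kernel

theorem rot2_1 : T.rot 2 [2] (sel (ones 3159) ip2 1) = true := by decide +kernel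

theorem rot2_1r : band (Rule.ok (2 * 8) EX RL ⟨2 :: [2], [], 29, false⟩) (lall (memL L) [2]) = true := by decide +kernel

theorem rot2_2 : T.rot 2 [4, 2, 4] (sel (ones 3159) ip2 2) = true := by decide +kernel

theorem rot2_2r : band (Rule.ok (2 * 8) EX RL ⟨2 :: [4, 2, 4], [], 8, false⟩) (lall (memL L) [4, 2, 4]) = true := by decide +kernel

theorem rot2_3 : T.rot 2 [5, 2, 5] (sel (ones 3159) ip2 3) = true := by decide +kernel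

theorem rot2_3r : band (Rule.ok (2 * 8) EX RL ⟨2 :: [5, 2, 5], [], 9, false⟩) (lall (memL L) [5, 2, 5]) = true := by decide +kernel

theorem rot2_4 : T.rot 2 [6, 2, 6] (sel (ones 3159) ip2 4) = true := by decide +kernel

theorem rot2_4r : band (Rule.ok (2 * 8) EX RL ⟨2 :: [6, 2, 6], [], 10, false⟩) (lall (memL L) [6, 2, 6]) = true := by decide +kernel

theorem rot2_5 : T.rot 2 [7, 2, 7] (sel (ones 3159) ip2 5) = true := by decide +kernel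

theorem rot2_5r : band (Rule.ok (2 * 8) EX RL ⟨2 :: [7, 2, 7], [], 11, false⟩) (lall (memL L) [7, 2, 7]) = true := by decide +kernel

theorem rot2_6 : T.rot 2 [8, 2, 8] (sel (ones 3159) ip2 6) = true := by decide +kernel

theorem rot2_6r : band (Rule.ok (2 * 8) EX RL ⟨2 :: [8, 2, 8], [], 12, false⟩) (lall (memL L) [8, 2, 8]) = true := by decide +kernel

theorem rot2_7 : T.rot 2 [1, 2, 1, 2, 1] (sel (ones 3159) ip2 7) = true := by decide +kernel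

theorem rot2_7r : band (Rule.ok (2 * 8) EX RL ⟨2 :: [1, 2, 1, 2, 1], [], 0, true⟩) (lall (memL L) [1, 2, 1, 2, 1]) = true := by decide +kernel

theorem rot2_8 : T.rot 2 [3, 2, 3, 2, 3] (sel (ones 3159) ip2 8) = true := by decide +kernel

theorem rot2_8r : band (Rule.ok (2 * 8) EX RL ⟨2 :: [3, 2, 3, 2, 3], [], 7, false⟩) (lall (memL L) [3, 2, 3, 2, 3]) = true := by decide +kernel

theorem rot2_9 : T.rot 2 [3, 8, 7, 3, 5, 4, 3, 1, 2, 3, 8, 7, 3, 5, 4, 3, 1, 2, 3, 8, 7, 3, 5, 4, 3, 1, 2, 3, 8, 7, 3, 5, 4, 3, 1, 2, 3, 8, 7, 3, 5, 4, 3, 1, 2, 3, 8, 7, 3, 5, 4, 3, 1, 2, 3, 8, 7, 3, 5, 4, 3, 1, 2, 3, 8, 7, 3, 5, 4, 3, 1, 2, 3, 8, 7, 3, 5, 4, 3, 1, 2, 3, 8, 7, 3, 5, 4, 3, 1] (sel (ones 3159) ip2 9) = true := by decide +kernel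

theorem rot2_9r : band (Rule.ok (2 * 8) EX RL ⟨2 :: [3, 8, 7, 3, 5, 4, 3, 1, 2, 3, 8, 7, 3, 5, 4, 3, 1, 2, 3, 8, 7, 3, 5, 4, 3, 1, 2, 3, 8, 7, 3, 5, 4, 3, 1, 2, 3, 8, 7, 3, 5, 4, 3, 1, 2, 3, 8, 7, 3, 5, 4, 3, 1, 2, 3, 8, 7, 3, 5, 4, 3, 1, 2, 3, 8, 7, 3, 5, 4, 3, 1, 2, 3, 8, 7, 3, 5, 4, 3, 1, 2, 3, 8, 7, 3, 5, 4, 3, 1], [4, 2], 28, true⟩) (lall (memL L) [3, 8, 7, 3, 5, 4, 3, 1, 2, 3, 8, 7, 3, 5, 4, 3, 1, 2, 3, 8, 7, 3, 5, 4, 3, 1, 2, 3, 8, 7, 3, 5, 4, 3, 1, 2, 3, 8, 7, 3, 5, 4, 3, 1, 2, 3, 8, 7, 3, 5, 4, 3, 1, 2, 3, 8, 7, 3, 5, 4, 3, 1, 2, 3, 8, 7, 3, 5, 4, 3, 1, 2, 3, 8, 7, 3, 5, 4, 3, 1, 2, 3, 8, 7, 3, 5, 4, 3, 1]) = true := by decide +kernel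

theorem rot2_10 : T.rot 2 [1, 3, 4, 5, 3, 7, 8, 3, 2, 1, 3, 4, 5, 3, 7, 8, 3, 2, 1, 3, 4, 5, 3, 7, 8, 3, 2, 1, 3, 4, 5, 3, 7, 8, 3, 2, 1, 3, 4, 5, 3, 7, 8, 3, 2, 1, 3, 4, 5, 3, 7, 8, 3, 2, 1, 3, 4, 5, 3, 7, 8, 3, 2, 1, 3, 4, 5, 3, 7, 8, 3, 2, 1, 3, 4, 5, 3, 7, 8, 3, 2, 1, 3, 4, 5, 3, 7, 8, 3] (sel (ones 3159) ip2 10) = true := by decide +kernel

theorem rot2_10r : band (Rule.ok (2 * 8) EX RL ⟨2 :: [1, 3, 4, 5, 3, 7, 8, 3, 2, 1, 3, 4, 5, 3, 7, 8, 3, 2, 1, 3, 4, 5, 3, 7, 8, 3, 2, 1, 3, 4, 5, 3, 7, 8, 3, 2, 1, 3, 4, 5, 3, 7, 8, 3, 2, 1, 3, 4, 5, 3, 7, 8, 3, 2, 1, 3, 4, 5, 3, 7, 8, 3, 2, 1, 3, 4, 5, 3, 7, 8, 3, 2, 1, 3, 4, 5, 3, 7, 8, 3, 2, 1, 3, 4, 5, 3, 7, 8, 3], [4], 28, false⟩) (lall (memL L) [1, 3, 4, 5, 3, 7, 8, 3, 2, 1, 3, 4, 5, 3, 7, 8, 3, 2, 1, 3, 4, 5, 3, 7, 8, 3, 2, 1, 3, 4, 5, 3, 7, 8, 3, 2, 1, 3, 4, 5, 3, 7, 8, 3, 2, 1, 3, 4, 5, 3,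 7, 8, 3, 2, 1, 3, 4, 5, 3, 7, 8, 3, 2, 1, 3, 4, 5, 3, 7, 8, 3, 2, 1, 3, 4, 5, 3, 7, 8, 3, 2, 1, 3, 4, 5, 3, 7, 8, 3]) = true := by decide +kernel

theorem ep0a : T.treePath [8, 7, 3, 2, 4, 3, 5, 4, 7, 3, 2, 1, 8, 7, 3] (Nat.shiftLeft 1 225) 1 = true := by decide +kernel

theorem ep0b : T.treePath [8, 7, 3, 2, 1, 4, 3, 2, 7, 3, 4, 5, 8, 7, 3, 4] (Nat.shiftLeft 1 279) 1 = true := by decide +kernel

theorem ep0c : band (lall (fun z => Nat.ble z 255) ([8, 7, 3, 2, 4, 3, 5, 4, 7, 3, 2, 1, 8, 7, 3] ++ 2 :: [4, 3, 7, 8, 5, 4, 3, 7, 2, 3, 4, 1, 2, 3, 7, 8])) (concl F IV 921 0x2000030000280001c00016000110000b8000740004a000310001f800144000d2000870005580034c00e60000b0000460001b8000ac000440001a0000a8000400001a000090000300000c000040000100000020 (encA ([8, 7, 3, 2, 4, 3, 5, 4, 7, 3, 2, 1, 8, 7, 3] ++ 2 :: [4, 3, 7, 8, 5, 4, 3, 7, 2, 3, 4, 1, 2, 3, 7, 8])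 0)) = true := by decide +kernel

theorem ep0d : band (Rule.ok (2 * 8) EX [] ⟨lapp [8, 7, 3, 2, 1, 4, 3, 2, 7, 3, 4, 5, 8, 7, 3, 4] [4, 3, 7, 8, 5, 4, 3, 7, 2, 3, 4, 1, 2, 3, 7, 8], [], 0, false⟩) (band (lall (memL L) [8, 7, 3, 2, 4, 3, 5, 4, 7, 3, 2, 1, 8, 7, 3]) (lall (memL L) [8, 7, 3, 2, 1, 4, 3, 2, 7, 3, 4, 5, 8, 7, 3, 4])) = true := by decide +kernel

theorem cov2 : T.cover 2 [(sel (ones 3159) ip2 1), (sel (ones 3159) ip2 2), (sel (ones 3159) ip2 3), (sel (ones 3159) ip2 4), (sel (ones 3159) ip2 5), (sel (ones 3159) ip2 6), (sel (ones 3159) ip2 7), (sel (ones 3159) ip2 8), (sel (ones 3159) ip2 9), (sel (ones 3159) ip2 10), 1, (Nat.shiftLeft 1 225)] = true := by decide +kernel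

theorem tl2 : T.treeLt 12 2 = true := by decide +kernel

theorem rot3_1 : T.rot 3 [3] (sel (ones 3159) ip3 1) = true := by decide +kernel

theorem rot3_1r : band (Rule.ok (2 * 8) EX RL ⟨3 :: [3], [], 29, false⟩) (lall (memL L) [3]) = true := by decide +kernel

theorem rot3_2 : T.rot 3 [1, 3, 1] (sel (ones 3159) ip3 2) = true := by decide +kernel

theorem rot3_2r : band (Rule.ok (2 * 8) EX RL ⟨3 :: [1, 3, 1], [], 1, true⟩) (lall (memL L) [1, 3, 1]) = true := by decide +kernel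

theorem rot3_3 : T.rot 3 [5, 3, 5] (sel (ones 3159) ip3 3) = true := by decide +kernel

theorem rot3_3r : band (Rule.ok (2 * 8) EX RL ⟨3 :: [5, 3, 5], [], 14, false⟩) (lall (memL L) [5, 3, 5]) = true := by decide +kernel

theorem rot3_4 : T.rot 3 [6, 3, 6] (sel (ones 3159) ip3 4) = true := by decide +kernel

theorem rot3_4r : band (Rule.ok (2 * 8) EX RL ⟨3 :: [6, 3, 6], [], 15, false⟩) (lall (memL L) [6, 3, 6]) = true := by decide +kernel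

theorem rot3_5 : T.rot 3 [8, 3, 8] (sel (ones 3159) ip3 5) = true := by decide +kernel

theorem rot3_5r : band (Rule.ok (2 * 8) EX RL ⟨3 :: [8, 3, 8], [], 17, false⟩) (lall (memL L) [8, 3, 8]) = true := by decide +kernel

theorem rot3_6 : T.rot 3 [2, 3, 2, 3, 2] (sel (ones 3159) ip3 6) = true := by decide +kernel

theorem rot3_6r : band (Rule.ok (2 * 8) EX RL ⟨3 :: [2, 3, 2, 3, 2], [], 7, true⟩) (lall (memL L) [2, 3, 2, 3, 2]) = true := by decide +kernel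

theorem rot3_7 : T.rot 3 [4, 3, 4, 3, 4] (sel (ones 3159) ip3 7) = true := by decide +kernel

theorem rot3_7r : band (Rule.ok (2 * 8) EX RL ⟨3 :: [4, 3, 4, 3, 4], [], 13, false⟩) (lall (memL L) [4, 3, 4, 3, 4]) = true := by decide +kernel

theorem rot3_8 : T.rot 3 [7, 3, 7, 3, 7] (sel (ones 3159) ip3 8) = true := by decide +kernel

theorem rot3_8r : band (Rule.ok (2 * 8) EX RL ⟨3 :: [7, 3, 7, 3, 7], [], 16, false⟩) (lall (memL L) [7, 3, 7, 3, 7]) = true := by decide +kernel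

theorem rot3_9 : T.rot 3 [5, 4, 3, 1, 2, 3, 8, 7, 3, 5, 4, 3, 1, 2, 3, 8, 7, 3, 5, 4, 3, 1, 2, 3, 8, 7, 3, 5, 4, 3, 1, 2, 3, 8, 7, 3, 5, 4, 3, 1, 2, 3, 8, 7, 3, 5, 4, 3, 1, 2, 3, 8, 7, 3, 5, 4, 3, 1, 2, 3, 8, 7, 3, 5, 4, 3, 1, 2, 3, 8, 7, 3, 5, 4, 3, 1, 2, 3, 8, 7, 3, 5, 4, 3, 1, 2, 3, 8, 7] (sel (ones 3159) ip3 9) = true := by decide +kernel

theorem rot3_9r : band (Rule.ok (2 * 8) EX RL ⟨3 :: [5, 4, 3, 1, 2, 3, 8, 7, 3, 5, 4, 3, 1, 2, 3, 8, 7, 3, 5, 4, 3, 1, 2, 3, 8, 7, 3, 5, 4, 3, 1, 2, 3, 8, 7, 3, 5, 4, 3, 1, 2, 3, 8, 7, 3, 5, 4, 3, 1, 2, 3, 8, 7, 3, 5, 4, 3, 1, 2, 3, 8, 7, 3, 5, 4, 3, 1, 2, 3, 8, 7, 3, 5, 4, 3, 1, 2, 3, 8, 7, 3, 5, 4, 3, 1, 2, 3, 8, 7], [14, 12], 28, true⟩) (lall (memL L) [5, 4, 3, 1, 2, 3, 8, 7, 3, 5, 4, 3, 1, 2, 3, 8, 7, 3, 5, 4, 3, 1, 2, 3, 8, 7, 3, 5, 4, 3, 1, 2, 3, 8, 7, 3, 5, 4, 3, 1, 2, 3, 8, 7, 3, 5, 4, 3, 1,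 2, 3, 8, 7, 3, 5, 4, 3, 1, 2, 3, 8, 7, 3, 5, 4, 3, 1, 2, 3, 8, 7, 3, 5, 4, 3, 1, 2, 3, 8, 7, 3, 5, 4, 3, 1, 2, 3, 8, 7]) = true := by decide +kernel

theorem rot3_10 : T.rot 3 [1, 2, 3, 8, 7, 3, 5, 4, 3, 1, 2, 3, 8, 7, 3, 5, 4, 3, 1, 2, 3, 8, 7, 3, 5, 4, 3, 1, 2, 3, 8, 7, 3, 5, 4, 3, 1, 2, 3, 8, 7, 3, 5, 4, 3, 1, 2, 3, 8, 7, 3, 5, 4, 3, 1, 2, 3, 8, 7, 3, 5, 4, 3, 1, 2, 3, 8, 7, 3, 5, 4, 3, 1, 2, 3, 8, 7, 3, 5, 4, 3, 1, 2, 3, 8, 7, 3, 5, 4] (sel (ones 3159) ip3 10) = true := by decide +kernel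

theorem rot3_10r : band (Rule.ok (2 * 8) EX RL ⟨3 :: [1, 2, 3, 8, 7, 3, 5, 4, 3, 1, 2, 3, 8, 7, 3, 5, 4, 3, 1, 2, 3, 8, 7, 3, 5, 4, 3, 1, 2, 3, 8, 7, 3, 5, 4, 3, 1, 2, 3, 8, 7, 3, 5, 4, 3, 1, 2, 3, 8, 7, 3, 5, 4, 3, 1, 2, 3, 8, 7, 3, 5, 4, 3, 1, 2, 3, 8, 7, 3, 5, 4, 3, 1, 2, 3, 8, 7, 3, 5, 4, 3, 1, 2, 3, 8, 7, 3, 5, 4], [4, 2, 0, 4], 28, true⟩) (lall (memL L) [1, 2, 3, 8, 7, 3, 5, 4, 3, 1, 2, 3, 8, 7, 3, 5, 4, 3, 1, 2, 3, 8, 7, 3, 5, 4, 3, 1, 2, 3, 8, 7, 3, 5, 4, 3, 1, 2, 3, 8, 7, 3, 5, 4, 3, 1, 2, 3, 8, 7, 3, 5, 4, 3, 1, 2, 3, 8, 7, 3, 5, 4, 3, 1, 2, 3, 8, 7, 3, 5, 4, 3, 1, 2, 3, 8, 7, 3, 5, 4, 3, 1, 2, 3, 8, 7, 3, 5, 4]) = true := by decide +kernel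

theorem rot3_11 : T.rot 3 [8, 7, 3, 5, 4, 3, 1, 2, 3, 8, 7, 3, 5, 4, 3, 1, 2, 3, 8, 7, 3, 5, 4, 3, 1, 2, 3, 8, 7, 3, 5, 4, 3, 1, 2, 3, 8, 7, 3, 5, 4, 3, 1, 2, 3, 8, 7, 3, 5, 4, 3, 1, 2, 3, 8, 7, 3, 5, 4, 3, 1, 2, 3, 8, 7, 3, 5, 4, 3, 1, 2, 3, 8, 7, 3, 5, 4, 3, 1, 2, 3, 8, 7, 3, 5, 4, 3, 1, 2] (sel (ones 3159) ip3 11) = true := by decide +kernel

theorem rot3_11r : band (Rule.ok (2 * 8) EX RL ⟨3 :: [8, 7, 3, 5, 4, 3, 1, 2, 3, 8, 7, 3, 5, 4, 3, 1, 2, 3, 8, 7, 3, 5, 4, 3, 1, 2, 3, 8, 7, 3, 5, 4, 3, 1, 2, 3, 8, 7, 3, 5, 4, 3, 1, 2, 3, 8, 7, 3, 5, 4, 3, 1, 2, 3, 8, 7, 3, 5, 4, 3, 1, 2, 3, 8, 7, 3, 5, 4, 3, 1, 2, 3, 8, 7, 3, 5, 4, 3, 1, 2, 3, 8, 7, 3, 5, 4, 3, 1, 2], [4], 28, true⟩) (lall (memL L) [8, 7, 3, 5, 4, 3, 1, 2, 3, 8, 7, 3, 5, 4, 3, 1, 2, 3, 8, 7, 3, 5, 4, 3, 1, 2, 3, 8, 7, 3, 5, 4, 3, 1, 2, 3, 8, 7, 3, 5, 4, 3, 1, 2, 3, 8, 7, 3, 5, 4,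 3, 1, 2, 3, 8, 7, 3, 5, 4, 3, 1, 2, 3, 8, 7, 3, 5, 4, 3, 1, 2, 3, 8, 7, 3, 5, 4, 3, 1, 2, 3, 8, 7, 3, 5, 4, 3, 1, 2]) = true := by decide +kernel

theorem rot3_12 : T.rot 3 [2, 1, 3, 4, 5, 3, 7, 8, 3, 2, 1, 3, 4, 5, 3, 7, 8, 3, 2, 1, 3, 4, 5, 3, 7, 8, 3, 2, 1, 3, 4, 5, 3, 7, 8, 3, 2, 1, 3, 4, 5, 3, 7, 8, 3, 2, 1, 3, 4, 5, 3, 7, 8, 3, 2, 1, 3, 4, 5, 3, 7, 8, 3, 2, 1, 3, 4, 5, 3, 7, 8, 3, 2, 1, 3, 4, 5, 3, 7, 8, 3, 2, 1, 3, 4, 5, 3, 7, 8] (sel (ones 3159) ip3 12) = true := by decide +kernel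

theorem rot3_12r : band (Rule.ok (2 * 8) EX RL ⟨3 :: [2, 1, 3, 4, 5, 3, 7, 8, 3, 2, 1, 3, 4, 5, 3, 7, 8, 3, 2, 1, 3, 4, 5, 3, 7, 8, 3, 2, 1, 3, 4, 5, 3, 7, 8, 3, 2, 1, 3, 4, 5, 3, 7, 8, 3, 2, 1, 3, 4, 5, 3, 7, 8, 3, 2, 1, 3, 4, 5, 3, 7, 8, 3, 2, 1, 3, 4, 5, 3, 7, 8, 3, 2, 1, 3, 4, 5, 3, 7, 8, 3, 2, 1, 3, 4, 5, 3, 7, 8], [], 28, false⟩) (lall (memL L) [2, 1, 3, 4, 5, 3, 7, 8, 3, 2, 1, 3, 4, 5, 3, 7, 8, 3, 2, 1, 3, 4, 5, 3, 7, 8, 3, 2, 1, 3, 4, 5, 3, 7, 8, 3, 2, 1, 3, 4, 5, 3, 7, 8, 3, 2, 1, 3, 4, 5, 3, 7, 8, 3, 2, 1, 3, 4, 5, 3, 7, 8, 3, 2, 1, 3, 4, 5, 3, 7, 8, 3, 2, 1, 3, 4, 5, 3, 7, 8, 3, 2, 1, 3, 4, 5, 3, 7, 8]) = true := by decide +kernel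

theorem rot3_13 : T.rot 3 [4, 5, 3, 7, 8, 3, 2, 1, 3, 4, 5, 3, 7, 8, 3, 2, 1, 3, 4, 5, 3, 7, 8, 3, 2, 1, 3, 4, 5, 3, 7, 8, 3, 2, 1, 3, 4, 5, 3, 7, 8, 3, 2, 1, 3, 4, 5, 3, 7, 8, 3, 2, 1, 3, 4, 5, 3, 7, 8, 3, 2, 1, 3, 4, 5, 3, 7, 8, 3, 2, 1, 3, 4, 5, 3, 7, 8, 3, 2, 1, 3, 4, 5, 3, 7, 8, 3, 2, 1] (sel (ones 3159) ip3 13) = true := by decide +kernel

theorem rot3_13r : band (Rule.ok (2 * 8) EX RL ⟨3 :: [4, 5, 3, 7, 8, 3, 2, 1, 3, 4, 5, 3, 7, 8, 3, 2, 1, 3, 4, 5, 3, 7, 8, 3, 2, 1, 3, 4, 5, 3, 7, 8, 3, 2, 1, 3, 4, 5, 3, 7, 8, 3, 2, 1, 3, 4, 5, 3, 7, 8, 3, 2, 1, 3, 4, 5, 3, 7, 8, 3, 2, 1, 3, 4, 5, 3, 7, 8, 3, 2, 1, 3, 4, 5, 3, 7, 8, 3, 2, 1, 3, 4, 5, 3, 7, 8, 3, 2, 1], [4, 2, 0], 28, false⟩) (lall (memL L) [4, 5, 3, 7, 8, 3, 2, 1, 3, 4, 5, 3, 7, 8, 3, 2, 1, 3, 4, 5, 3, 7, 8, 3, 2, 1, 3, 4, 5, 3, 7, 8, 3, 2, 1, 3, 4, 5, 3, 7, 8, 3, 2, 1, 3, 4, 5, 3,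 7, 8, 3, 2, 1, 3, 4, 5, 3, 7, 8, 3, 2, 1, 3, 4, 5, 3, 7, 8, 3, 2, 1, 3, 4, 5, 3, 7, 8, 3, 2, 1, 3, 4, 5, 3, 7, 8, 3, 2, 1]) = true := by decide +kernel

theorem rot3_14 : T.rot 3 [7, 8, 3, 2, 1, 3, 4, 5, 3, 7, 8, 3, 2, 1, 3, 4, 5, 3, 7, 8, 3, 2, 1, 3, 4, 5, 3, 7, 8, 3, 2, 1, 3, 4, 5, 3, 7, 8, 3, 2, 1, 3, 4, 5, 3, 7, 8, 3, 2, 1, 3, 4, 5, 3, 7, 8, 3, 2, 1, 3, 4, 5, 3, 7, 8, 3, 2, 1, 3, 4, 5, 3, 7, 8, 3, 2, 1, 3, 4, 5, 3, 7, 8, 3, 2, 1, 3, 4, 5] (sel (ones 3159) ip3 14) = true := by decide +kernel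

theorem rot3_14r : band (Rule.ok (2 * 8) EX RL ⟨3 :: [7, 8, 3, 2, 1, 3, 4, 5, 3, 7, 8, 3, 2, 1, 3, 4, 5, 3, 7, 8, 3, 2, 1, 3, 4, 5, 3, 7, 8, 3, 2, 1, 3, 4, 5, 3, 7, 8, 3, 2, 1, 3, 4, 5, 3, 7, 8, 3, 2, 1, 3, 4, 5, 3, 7, 8, 3, 2, 1, 3, 4, 5, 3, 7, 8, 3, 2, 1, 3, 4, 5, 3, 7, 8, 3, 2, 1, 3, 4, 5, 3, 7, 8, 3, 2, 1, 3, 4, 5], [14, 12, 4], 28, false⟩) (lall (memL L) [7, 8, 3, 2, 1, 3, 4, 5, 3, 7, 8, 3, 2, 1, 3, 4, 5, 3, 7, 8, 3, 2, 1, 3, 4, 5, 3, 7, 8, 3, 2, 1, 3, 4, 5, 3, 7, 8, 3, 2, 1, 3, 4, 5, 3, 7, 8, 3, 2, 1, 3, 4, 5, 3, 7, 8, 3, 2, 1, 3, 4, 5, 3, 7, 8, 3, 2, 1, 3, 4, 5, 3, 7, 8, 3, 2, 1, 3, 4, 5, 3, 7, 8, 3, 2, 1, 3, 4, 5]) = true := by decide +kernel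

theorem cov3 : T.cover 3 [(sel (ones 3159) ip3 1), (sel (ones 3159) ip3 2), (sel (ones 3159) ip3 3), (sel (ones 3159) ip3 4), (sel (ones 3159) ip3 5), (sel (ones 3159) ip3 6), (sel (ones 3159) ip3 7), (sel (ones 3159) ip3 8), (sel (ones 3159) ip3 9), (sel (ones 3159) ip3 10), (sel (ones 3159) ip3 11), (sel (ones 3159) ip3 12), (sel (ones 3159) ip3 13), (sel (ones 3159) ip3 14), 1] = true := by decide +kernel

theorem tl3 : T.treeLt 12 3 = true := by decide +kernel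

theorem rot4_1 : T.rot 4 [4] (sel (ones 3159) ip4 1) = true := by decide +kernel

theorem rot4_1r : band (Rule.ok (2 * 8) EX RL ⟨4 :: [4], [], 29, false⟩) (lall (memL L) [4]) = true := by decide +kernel

theorem rot4_2 : T.rot 4 [1, 4, 1] (sel (ones 3159) ip4 2) = true := by decide +kernel

theorem rot4_2r : band (Rule.ok (2 * 8) EX RL ⟨4 :: [1, 4, 1], [], 2, true⟩) (lall (memL L) [1, 4, 1]) = true := by decide +kernel

theorem rot4_3 : T.rot 4 [2, 4, 2] (sel (ones 3159) ip4 3) = true := by decide +kernel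

theorem rot4_3r : band (Rule.ok (2 * 8) EX RL ⟨4 :: [2, 4, 2], [], 8, true⟩) (lall (memL L) [2, 4, 2]) = true := by decide +kernel

theorem rot4_4 : T.rot 4 [6, 4, 6] (sel (ones 3159) ip4 4) = true := by decide +kernel

theorem rot4_4r : band (Rule.ok (2 * 8) EX RL ⟨4 :: [6, 4, 6], [], 19, false⟩) (lall (memL L) [6, 4, 6]) = true := by decide +kernel

theorem rot4_5 : T.rot 4 [7, 4, 7] (sel (ones 3159) ip4 5) = true := by decide +kernel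

theorem rot4_5r : band (Rule.ok (2 * 8) EX RL ⟨4 :: [7, 4, 7], [], 20, false⟩) (lall (memL L) [7, 4, 7]) = true := by decide +kernel

theorem rot4_6 : T.rot 4 [8, 4, 8] (sel (ones 3159) ip4 6) = true := by decide +kernel

theorem rot4_6r : band (Rule.ok (2 * 8) EX RL ⟨4 :: [8, 4, 8], [], 21, false⟩) (lall (memL L) [8, 4, 8]) = true := by decide +kernel

theorem rot4_7 : T.rot 4 [3, 4, 3, 4, 3] (sel (ones 3159) ip4 7) = true := by decide +kernel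

theorem rot4_7r : band (Rule.ok (2 * 8) EX RL ⟨4 :: [3, 4, 3, 4, 3], [], 13, true⟩) (lall (memL L) [3, 4, 3, 4, 3]) = true := by decide +kernel

theorem rot4_8 : T.rot 4 [5, 4, 5, 4, 5] (sel (ones 3159) ip4 8) = true := by decide +kernel

theorem rot4_8r : band (Rule.ok (2 * 8) EX RL ⟨4 :: [5, 4, 5, 4, 5], [], 18, false⟩) (lall (memL L) [5, 4, 5, 4, 5]) = true := by decide +kernel

theorem rot4_9 : T.rot 4 [3, 1, 2, 3, 8, 7, 3, 5, 4, 3, 1, 2, 3, 8, 7, 3, 5, 4, 3, 1, 2, 3, 8, 7, 3, 5, 4, 3, 1, 2, 3, 8, 7, 3, 5, 4, 3, 1, 2, 3, 8, 7, 3, 5, 4, 3, 1, 2, 3, 8, 7, 3, 5, 4, 3, 1, 2, 3, 8, 7, 3, 5, 4, 3, 1, 2, 3, 8, 7, 3, 5, 4, 3, 1, 2, 3, 8, 7, 3, 5, 4, 3, 1, 2, 3, 8, 7, 3, 5] (sel (ones 3159) ip4 9) = true := by decide +kernel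

theorem rot4_9r : band (Rule.ok (2 * 8) EX RL ⟨4 :: [3, 1, 2, 3, 8, 7, 3, 5, 4, 3, 1, 2, 3, 8, 7, 3, 5, 4, 3, 1, 2, 3, 8, 7, 3, 5, 4, 3, 1, 2, 3, 8, 7, 3, 5, 4, 3, 1, 2, 3, 8, 7, 3, 5, 4, 3, 1, 2, 3, 8, 7, 3, 5, 4, 3, 1, 2, 3, 8, 7, 3, 5, 4, 3, 1, 2, 3, 8, 7, 3, 5, 4, 3, 1, 2, 3, 8, 7, 3, 5, 4, 3, 1, 2, 3, 8, 7, 3, 5], [14, 12, 4, 8], 28, true⟩) (lall (memL L) [3, 1, 2, 3, 8, 7, 3, 5, 4, 3, 1, 2, 3, 8, 7, 3, 5, 4, 3, 1, 2, 3, 8, 7, 3, 5, 4, 3, 1, 2, 3, 8, 7, 3, 5, 4, 3, 1, 2, 3, 8, 7, 3, 5, 4, 3, 1, 2, 3, 8, 7, 3, 5, 4, 3, 1, 2, 3, 8, 7, 3, 5, 4, 3, 1, 2, 3, 8, 7, 3, 5, 4, 3, 1, 2, 3, 8, 7, 3, 5, 4, 3, 1, 2, 3, 8, 7, 3, 5]) = true := by decide +kernel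

theorem rot4_10 : T.rot 4 [5, 3, 7, 8, 3, 2, 1, 3, 4, 5, 3, 7, 8, 3, 2, 1, 3, 4, 5, 3, 7, 8, 3, 2, 1, 3, 4, 5, 3, 7, 8, 3, 2, 1, 3, 4, 5, 3, 7, 8, 3, 2, 1, 3, 4, 5, 3, 7, 8, 3, 2, 1, 3, 4, 5, 3, 7, 8, 3, 2, 1, 3, 4, 5, 3, 7, 8, 3, 2, 1, 3, 4, 5, 3, 7, 8, 3, 2, 1, 3, 4, 5, 3, 7, 8, 3, 2, 1, 3] (sel (ones 3159) ip4 10) = true := by decide +kernel

theorem rot4_10r : band (Rule.ok (2 * 8) EX RL ⟨4 :: [5, 3, 7, 8, 3, 2, 1, 3, 4, 5, 3, 7, 8, 3, 2, 1, 3, 4, 5, 3, 7, 8, 3, 2, 1, 3, 4, 5, 3, 7, 8, 3, 2, 1, 3, 4, 5, 3, 7, 8, 3, 2, 1, 3, 4, 5, 3, 7, 8, 3, 2, 1, 3, 4, 5, 3, 7, 8, 3, 2, 1, 3, 4, 5, 3, 7, 8, 3, 2, 1, 3, 4, 5, 3, 7, 8, 3, 2, 1, 3, 4, 5, 3, 7, 8, 3, 2, 1, 3], [4, 2, 0, 4], 28, false⟩) (lall (memL L) [5, 3, 7, 8, 3, 2, 1, 3, 4, 5, 3, 7, 8, 3, 2, 1, 3, 4, 5, 3, 7, 8, 3, 2, 1, 3, 4, 5, 3, 7, 8, 3, 2, 1, 3, 4, 5, 3, 7, 8, 3, 2, 1, 3, 4, 5, 3,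 7, 8, 3, 2, 1, 3, 4, 5, 3, 7, 8, 3, 2, 1, 3, 4, 5, 3, 7, 8, 3, 2, 1, 3, 4, 5, 3, 7, 8, 3, 2, 1, 3, 4, 5, 3, 7, 8, 3, 2, 1, 3]) = true := by decide +kernel

theorem cov4 : T.cover 4 [(sel (ones 3159) ip4 1), (sel (ones 3159) ip4 2), (sel (ones 3159) ip4 3), (sel (ones 3159) ip4 4), (sel (ones 3159) ip4 5), (sel (ones 3159) ip4 6), (sel (ones 3159) ip4 7), (sel (ones 3159) ip4 8), (sel (ones 3159) ip4 9), (sel (ones 3159) ip4 10), 1] = true := by decide +kernel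

theorem tl4 : T.treeLt 12 4 = true := by decide +kernel

theorem rot5_1 : T.rot 5 [5] (sel (ones 3159) ip5 1) = true := by decide +kernel

theorem rot5_1r : band (Rule.ok (2 * 8) EX RL ⟨5 :: [5], [], 29, false⟩) (lall (memL L) [5]) = true := by decide +kernel

theorem rot5_2 : T.rot 5 [1, 5, 1] (sel (ones 3159) ip5 2) = true := by decide +kernel

theorem rot5_2r : band (Rule.ok (2 * 8) EX RL ⟨5 :: [1, 5, 1], [], 3, true⟩) (lall (memL L) [1, 5, 1]) = true := by decide +kernel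

theorem rot5_3 : T.rot 5 [2, 5, 2] (sel (ones 3159) ip5 3) = true := by decide +kernel

theorem rot5_3r : band (Rule.ok (2 * 8) EX RL ⟨5 :: [2, 5, 2], [], 9, true⟩) (lall (memL L) [2, 5, 2]) = true := by decide +kernel

theorem rot5_4 : T.rot 5 [3, 5, 3] (sel (ones 3159) ip5 4) = true := by decide +kernel

theorem rot5_4r : band (Rule.ok (2 * 8) EX RL ⟨5 :: [3, 5, 3], [], 14, true⟩) (lall (memL L) [3, 5, 3]) = true := by decide +kernel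

theorem rot5_5 : T.rot 5 [7, 5, 7] (sel (ones 3159) ip5 5) = true := by decide +kernel

theorem rot5_5r : band (Rule.ok (2 * 8) EX RL ⟨5 :: [7, 5, 7], [], 23, false⟩) (lall (memL L) [7, 5, 7]) = true := by decide +kernel

theorem rot5_6 : T.rot 5 [8, 5, 8] (sel (ones 3159) ip5 6) = true := by decide +kernel

theorem rot5_6r : band (Rule.ok (2 * 8) EX RL ⟨5 :: [8, 5, 8], [], 24, false⟩) (lall (memL L) [8, 5, 8]) = true := by decide +kernel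

theorem rot5_7 : T.rot 5 [4, 5, 4, 5, 4] (sel (ones 3159) ip5 7) = true := by decide +kernel

theorem rot5_7r : band (Rule.ok (2 * 8) EX RL ⟨5 :: [4, 5, 4, 5, 4], [], 18, true⟩) (lall (memL L) [4, 5, 4, 5, 4]) = true := by decide +kernel

theorem rot5_8 : T.rot 5 [6, 5, 6, 5, 6] (sel (ones 3159) ip5 8) = true := by decide +kernel

theorem rot5_8r : band (Rule.ok (2 * 8) EX RL ⟨5 :: [6, 5, 6, 5, 6], [], 22, false⟩) (lall (memL L) [6, 5, 6, 5, 6]) = true := by decide +kernel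

theorem rot5_9 : T.rot 5 [4, 3, 1, 2, 3, 8, 7, 3, 5, 4, 3, 1, 2, 3, 8, 7, 3, 5, 4, 3, 1, 2, 3, 8, 7, 3, 5, 4, 3, 1, 2, 3, 8, 7, 3, 5, 4, 3, 1, 2, 3, 8, 7, 3, 5, 4, 3, 1, 2, 3, 8, 7, 3, 5, 4, 3, 1, 2, 3, 8, 7, 3, 5, 4, 3, 1, 2, 3, 8, 7, 3, 5, 4, 3, 1, 2, 3, 8, 7, 3, 5, 4, 3, 1, 2, 3, 8, 7, 3] (sel (ones 3159) ip5 9) = true := by decide +kernel

theorem rot5_9r : band (Rule.ok (2 * 8) EX RL ⟨5 :: [4, 3, 1, 2, 3, 8, 7, 3, 5, 4, 3, 1, 2, 3, 8, 7, 3, 5, 4, 3, 1, 2, 3, 8, 7, 3, 5, 4, 3, 1, 2, 3, 8, 7, 3, 5, 4, 3, 1, 2, 3, 8, 7, 3, 5, 4, 3, 1, 2, 3, 8, 7, 3, 5, 4, 3, 1, 2, 3, 8, 7, 3, 5, 4, 3, 1, 2, 3, 8, 7, 3, 5, 4, 3, 1, 2, 3, 8, 7, 3, 5, 4, 3, 1, 2, 3, 8, 7, 3], [14, 12, 4], 28, true⟩) (lall (memL L) [4, 3, 1, 2, 3, 8, 7, 3, 5, 4, 3, 1, 2, 3, 8, 7, 3, 5, 4, 3, 1, 2, 3, 8, 7, 3, 5, 4, 3, 1, 2, 3, 8, 7, 3, 5, 4, 3, 1, 2, 3, 8, 7, 3, 5, 4, 3, 1,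 2, 3, 8, 7, 3, 5, 4, 3, 1, 2, 3, 8, 7, 3, 5, 4, 3, 1, 2, 3, 8, 7, 3, 5, 4, 3, 1, 2, 3, 8, 7, 3, 5, 4, 3, 1, 2, 3, 8, 7, 3]) = true := by decide +kernel

theorem rot5_10 : T.rot 5 [3, 7, 8, 3, 2, 1, 3, 4, 5, 3, 7, 8, 3, 2, 1, 3, 4, 5, 3, 7, 8, 3, 2, 1, 3, 4, 5, 3, 7, 8, 3, 2, 1, 3, 4, 5, 3, 7, 8, 3, 2, 1, 3, 4, 5, 3, 7, 8, 3, 2, 1, 3, 4, 5, 3, 7, 8, 3, 2, 1, 3, 4, 5, 3, 7, 8, 3, 2, 1, 3, 4, 5, 3, 7, 8, 3, 2, 1, 3, 4, 5, 3, 7, 8, 3, 2, 1, 3, 4] (sel (ones 3159) ip5 10) = true := by decide +kernel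

theorem rot5_10r : band (Rule.ok (2 * 8) EX RL ⟨5 :: [3, 7, 8, 3, 2, 1, 3, 4, 5, 3, 7, 8, 3, 2, 1, 3, 4, 5, 3, 7, 8, 3, 2, 1, 3, 4, 5, 3, 7, 8, 3, 2, 1, 3, 4, 5, 3, 7, 8, 3, 2, 1, 3, 4, 5, 3, 7, 8, 3, 2, 1, 3, 4, 5, 3, 7, 8, 3, 2, 1, 3, 4, 5, 3, 7, 8, 3, 2, 1, 3, 4, 5, 3, 7, 8, 3, 2, 1, 3, 4, 5, 3, 7, 8, 3, 2, 1, 3, 4], [14, 12, 4, 8], 28, false⟩) (lall (memL L) [3, 7, 8, 3, 2, 1, 3, 4, 5, 3, 7, 8, 3, 2, 1, 3, 4, 5, 3, 7, 8, 3, 2, 1, 3, 4, 5, 3, 7, 8, 3, 2, 1, 3, 4, 5, 3, 7, 8, 3, 2, 1, 3, 4, 5, 3, 7, 8, 3, 2, 1, 3, 4, 5, 3, 7, 8, 3, 2, 1, 3, 4, 5, 3, 7, 8, 3, 2, 1, 3, 4, 5, 3, 7, 8, 3, 2, 1, 3, 4, 5, 3, 7, 8, 3, 2, 1, 3, 4]) = true := by decide +kernel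

theorem cov5 : T.cover 5 [(sel (ones 3159) ip5 1), (sel (ones 3159) ip5 2), (sel (ones 3159) ip5 3), (sel (ones 3159) ip5 4), (sel (ones 3159) ip5 5), (sel (ones 3159) ip5 6), (sel (ones 3159) ip5 7), (sel (ones 3159) ip5 8), (sel (ones 3159) ip5 9), (sel (ones 3159) ip5 10), 1] = true := by decide +kernel

theorem tl5 : T.treeLt 12 5 = true := by decide +kernel

theorem rot6_1 : T.rot 6 [6] (sel (ones 3159) ip6 1) = true := by decide +kernel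

theorem rot6_1r : band (Rule.ok (2 * 8) EX RL ⟨6 :: [6], [], 29, false⟩) (lall (memL L) [6]) = true := by decide +kernel

theorem rot6_2 : T.rot 6 [1, 6, 1] (sel (ones 3159) ip6 2) = true := by decide +kernel

theorem rot6_2r : band (Rule.ok (2 * 8) EX RL ⟨6 :: [1, 6, 1], [], 4, true⟩) (lall (memL L) [1, 6, 1]) = true := by decide +kernel

theorem rot6_3 : T.rot 6 [2, 6, 2] (sel (ones 3159) ip6 3) = true := by decide +kernel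

theorem rot6_3r : band (Rule.ok (2 * 8) EX RL ⟨6 :: [2, 6, 2], [], 10, true⟩) (lall (memL L) [2, 6, 2]) = true := by decide +kernel

theorem rot6_4 : T.rot 6 [3, 6, 3] (sel (ones 3159) ip6 4) = true := by decide +kernel

theorem rot6_4r : band (Rule.ok (2 * 8) EX RL ⟨6 :: [3, 6, 3], [], 15, true⟩) (lall (memL L) [3, 6, 3]) = true := by decide +kernel

theorem rot6_5 : T.rot 6 [4, 6, 4] (sel (ones 3159) ip6 5) = true := by decide +kernel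

theorem rot6_5r : band (Rule.ok (2 * 8) EX RL ⟨6 :: [4, 6, 4], [], 19, true⟩) (lall (memL L) [4, 6, 4]) = true := by decide +kernel

theorem rot6_6 : T.rot 6 [7, 6, 7] (sel (ones 3159) ip6 6) = true := by decide +kernel

theorem rot6_6r : band (Rule.ok (2 * 8) EX RL ⟨6 :: [7, 6, 7], [], 25, false⟩) (lall (memL L) [7, 6, 7]) = true := by decide +kernel

theorem rot6_7 : T.rot 6 [8, 6, 8] (sel (ones 3159) ip6 7) = true := by decide +kernel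

theorem rot6_7r : band (Rule.ok (2 * 8) EX RL ⟨6 :: [8, 6, 8], [], 26, false⟩) (lall (memL L) [8, 6, 8]) = true := by decide +kernel

theorem rot6_8 : T.rot 6 [5, 6, 5, 6, 5] (sel (ones 3159) ip6 8) = true := by decide +kernel

theorem rot6_8r : band (Rule.ok (2 * 8) EX RL ⟨6 :: [5, 6, 5, 6, 5], [], 22, true⟩) (lall (memL L) [5, 6, 5, 6, 5]) = true := by decide +kernel

theorem cov6 : T.cover 6 [(sel (ones 3159) ip6 1), (sel (ones 3159) ip6 2), (sel (ones 3159) ip6 3), (sel (ones 3159) ip6 4), (sel (ones 3159) ip6 5), (sel (ones 3159) ip6 6), (sel (ones 3159) ip6 7), (sel (ones 3159) ip6 8), 1] = true := by decide +kernel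

theorem tl6 : T.treeLt 12 6 = true := by decide +kernel

theorem rot7_1 : T.rot 7 [7] (sel (ones 3159) ip7 1) = true := by decide +kernel

theorem rot7_1r : band (Rule.ok (2 * 8) EX RL ⟨7 :: [7], [], 29, false⟩) (lall (memL L) [7]) = true := by decide +kernel

theorem rot7_2 : T.rot 7 [1, 7, 1] (sel (ones 3159) ip7 2) = true := by decide +kernel

theorem rot7_2r : band (Rule.ok (2 * 8) EX RL ⟨7 :: [1, 7, 1], [], 5, true⟩) (lall (memL L) [1, 7, 1]) = true := by decide +kernel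

theorem rot7_3 : T.rot 7 [2, 7, 2] (sel (ones 3159) ip7 3) = true := by decide +kernel

theorem rot7_3r : band (Rule.ok (2 * 8) EX RL ⟨7 :: [2, 7, 2], [], 11, true⟩) (lall (memL L) [2, 7, 2]) = true := by decide +kernel

theorem rot7_4 : T.rot 7 [4, 7, 4] (sel (ones 3159) ip7 4) = true := by decide +kernel

theorem rot7_4r : band (Rule.ok (2 * 8) EX RL ⟨7 :: [4, 7, 4], [], 20, true⟩) (lall (memL L) [4, 7, 4]) = true := by decide +kernel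

theorem rot7_5 : T.rot 7 [5, 7, 5] (sel (ones 3159) ip7 5) = true := by decide +kernel

theorem rot7_5r : band (Rule.ok (2 * 8) EX RL ⟨7 :: [5, 7, 5], [], 23, true⟩) (lall (memL L) [5, 7, 5]) = true := by decide +kernel

theorem rot7_6 : T.rot 7 [6, 7, 6] (sel (ones 3159) ip7 6) = true := by decide +kernel

theorem rot7_6r : band (Rule.ok (2 * 8) EX RL ⟨7 :: [6, 7, 6], [], 25, true⟩) (lall (memL L) [6, 7, 6]) = true := by decide +kernel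

theorem rot7_7 : T.rot 7 [3, 7, 3, 7, 3] (sel (ones 3159) ip7 7) = true := by decide +kernel

theorem rot7_7r : band (Rule.ok (2 * 8) EX RL ⟨7 :: [3, 7, 3, 7, 3], [], 16, true⟩) (lall (memL L) [3, 7, 3, 7, 3]) = true := by decide +kernel

theorem rot7_8 : T.rot 7 [8, 7, 8, 7, 8] (sel (ones 3159) ip7 8) = true := by decide +kernel

theorem rot7_8r : band (Rule.ok (2 * 8) EX RL ⟨7 :: [8, 7, 8, 7, 8], [], 27, false⟩) (lall (memL L) [8, 7, 8, 7, 8]) = true := by decide +kernel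

theorem rot7_9 : T.rot 7 [3, 5, 4, 3, 1, 2, 3, 8, 7, 3, 5, 4, 3, 1, 2, 3, 8, 7, 3, 5, 4, 3, 1, 2, 3, 8, 7, 3, 5, 4, 3, 1, 2, 3, 8, 7, 3, 5, 4, 3, 1, 2, 3, 8, 7, 3, 5, 4, 3, 1, 2, 3, 8, 7, 3, 5, 4, 3, 1, 2, 3, 8, 7, 3, 5, 4, 3, 1, 2, 3, 8, 7, 3, 5, 4, 3, 1, 2, 3, 8, 7, 3, 5, 4, 3, 1, 2, 3, 8] (sel (ones 3159) ip7 9) = true := by decide +kernel

theorem rot7_9r : band (Rule.ok (2 * 8) EX RL ⟨7 :: [3, 5, 4, 3, 1, 2, 3, 8, 7, 3, 5, 4, 3, 1, 2, 3, 8, 7, 3, 5, 4, 3, 1, 2, 3, 8, 7, 3, 5, 4, 3, 1, 2, 3, 8, 7, 3, 5, 4, 3, 1, 2, 3, 8, 7, 3, 5, 4, 3, 1, 2, 3, 8, 7, 3, 5, 4, 3, 1, 2, 3, 8, 7, 3, 5, 4, 3, 1, 2, 3, 8, 7, 3, 5, 4, 3, 1, 2, 3, 8, 7, 3, 5, 4, 3, 1, 2, 3, 8], [14], 28, true⟩) (lall (memL L) [3, 5, 4, 3, 1, 2, 3, 8, 7, 3, 5, 4, 3, 1, 2, 3, 8, 7, 3, 5, 4, 3, 1, 2, 3, 8, 7, 3, 5, 4, 3, 1, 2, 3, 8, 7, 3, 5, 4, 3, 1, 2, 3, 8, 7, 3, 5, 4, 3, 1, 2,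 3, 8, 7, 3, 5, 4, 3, 1, 2, 3, 8, 7, 3, 5, 4, 3, 1, 2, 3, 8, 7, 3, 5, 4, 3, 1, 2, 3, 8, 7, 3, 5, 4, 3, 1, 2, 3, 8]) = true := by decide +kernel

theorem rot7_10 : T.rot 7 [8, 3, 2, 1, 3, 4, 5, 3, 7, 8, 3, 2, 1, 3, 4, 5, 3, 7, 8, 3, 2, 1, 3, 4, 5, 3, 7, 8, 3, 2, 1, 3, 4, 5, 3, 7, 8, 3, 2, 1, 3, 4, 5, 3, 7, 8, 3, 2, 1, 3, 4, 5, 3, 7, 8, 3, 2, 1, 3, 4, 5, 3, 7, 8, 3, 2, 1, 3, 4, 5, 3, 7, 8, 3, 2, 1, 3, 4, 5, 3, 7, 8, 3, 2, 1, 3, 4, 5, 3] (sel (ones 3159) ip7 10) = true := by decide +kernel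

theorem rot7_10r : band (Rule.ok (2 * 8) EX RL ⟨7 :: [8, 3, 2, 1, 3, 4, 5, 3, 7, 8, 3, 2, 1, 3, 4, 5, 3, 7, 8, 3, 2, 1, 3, 4, 5, 3, 7, 8, 3, 2, 1, 3, 4, 5, 3, 7, 8, 3, 2, 1, 3, 4, 5, 3, 7, 8, 3, 2, 1, 3, 4, 5, 3, 7, 8, 3, 2, 1, 3, 4, 5, 3, 7, 8, 3, 2, 1, 3, 4, 5, 3, 7, 8, 3, 2, 1, 3, 4, 5, 3, 7, 8, 3, 2, 1, 3, 4, 5, 3], [14, 12], 28, false⟩) (lall (memL L) [8, 3, 2, 1, 3, 4, 5, 3, 7, 8, 3, 2, 1, 3, 4, 5, 3, 7, 8, 3, 2, 1, 3, 4, 5, 3, 7, 8, 3, 2, 1, 3, 4, 5, 3, 7, 8, 3, 2, 1, 3, 4, 5, 3, 7, 8, 3, 2, 1, 3, 4, 5, 3, 7, 8, 3, 2, 1, 3, 4, 5, 3, 7, 8, 3, 2, 1, 3, 4, 5, 3, 7, 8, 3, 2, 1, 3, 4, 5, 3, 7, 8, 3, 2, 1, 3, 4, 5, 3]) = true := by decide +kernel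

theorem cov7 : T.cover 7 [(sel (ones 3159) ip7 1), (sel (ones 3159) ip7 2), (sel (ones 3159) ip7 3), (sel (ones 3159) ip7 4), (sel (ones 3159) ip7 5), (sel (ones 3159) ip7 6), (sel (ones 3159) ip7 7), (sel (ones 3159) ip7 8), (sel (ones 3159) ip7 9), (sel (ones 3159) ip7 10), 1] = true := by decide +kernel

theorem tl7 : T.treeLt 12 7 = true := by decide +kernel

theorem rot8_1 : T.rot 8 [8] (sel (ones 3159) ip8 1) = true := by decide +kernel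

theorem rot8_1r : band (Rule.ok (2 * 8) EX RL ⟨8 :: [8], [], 29, false⟩) (lall (memL L) [8]) = true := by decide +kernel

theorem rot8_2 : T.rot 8 [1, 8, 1] (sel (ones 3159) ip8 2) = true := by decide +kernel

theorem rot8_2r : band (Rule.ok (2 * 8) EX RL ⟨8 :: [1, 8, 1], [], 6, true⟩) (lall (memL L) [1, 8, 1]) = true := by decide +kernel

theorem rot8_3 : T.rot 8 [2, 8, 2] (sel (ones 3159) ip8 3) = true := by decide +kernel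

theorem rot8_3r : band (Rule.ok (2 * 8) EX RL ⟨8 :: [2, 8, 2], [], 12, true⟩) (lall (memL L) [2, 8, 2]) = true := by decide +kernel

theorem rot8_4 : T.rot 8 [3, 8, 3] (sel (ones 3159) ip8 4) = true := by decide +kernel

theorem rot8_4r : band (Rule.ok (2 * 8) EX RL ⟨8 :: [3, 8, 3], [], 17, true⟩) (lall (memL L) [3, 8, 3]) = true := by decide +kernel

theorem rot8_5 : T.rot 8 [4, 8, 4] (sel (ones 3159) ip8 5) = true := by decide +kernel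

theorem rot8_5r : band (Rule.ok (2 * 8) EX RL ⟨8 :: [4, 8, 4], [], 21, true⟩) (lall (memL L) [4, 8, 4]) = true := by decide +kernel

theorem rot8_6 : T.rot 8 [5, 8, 5] (sel (ones 3159) ip8 6) = true := by decide +kernel

theorem rot8_6r : band (Rule.ok (2 * 8) EX RL ⟨8 :: [5, 8, 5], [], 24, true⟩) (lall (memL L) [5, 8, 5]) = true := by decide +kernel

theorem rot8_7 : T.rot 8 [6, 8, 6] (sel (ones 3159) ip8 7) = true := by decide +kernel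

theorem rot8_7r : band (Rule.ok (2 * 8) EX RL ⟨8 :: [6, 8, 6], [], 26, true⟩) (lall (memL L) [6, 8, 6]) = true := by decide +kernel

theorem rot8_8 : T.rot 8 [7, 8, 7, 8, 7] (sel (ones 3159) ip8 8) = true := by decide +kernel

theorem rot8_8r : band (Rule.ok (2 * 8) EX RL ⟨8 :: [7, 8, 7, 8, 7], [], 27, true⟩) (lall (memL L) [7, 8, 7, 8, 7]) = true := by decide +kernel

theorem rot8_9 : T.rot 8 [7, 3, 5, 4, 3, 1, 2, 3, 8, 7, 3, 5, 4, 3, 1, 2, 3, 8, 7, 3, 5, 4, 3, 1, 2, 3, 8, 7, 3, 5, 4, 3, 1, 2, 3, 8, 7, 3, 5, 4, 3, 1, 2, 3, 8, 7, 3, 5, 4, 3, 1, 2, 3, 8, 7, 3, 5, 4, 3, 1, 2, 3, 8, 7, 3, 5, 4, 3, 1, 2, 3, 8, 7, 3, 5, 4, 3, 1, 2, 3, 8, 7, 3, 5, 4, 3, 1, 2, 3] (sel (ones 3159) ip8 9) = true := by decide +kernel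

theorem rot8_9r : band (Rule.ok (2 * 8) EX RL ⟨8 :: [7, 3, 5, 4, 3, 1, 2, 3, 8, 7, 3, 5, 4, 3, 1, 2, 3, 8, 7, 3, 5, 4, 3, 1, 2, 3, 8, 7, 3, 5, 4, 3, 1, 2, 3, 8, 7, 3, 5, 4, 3, 1, 2, 3, 8, 7, 3, 5, 4, 3, 1, 2, 3, 8, 7, 3, 5, 4, 3, 1, 2, 3, 8, 7, 3, 5, 4, 3, 1, 2, 3, 8, 7, 3, 5, 4, 3, 1, 2, 3, 8, 7, 3, 5, 4, 3, 1, 2, 3], [], 28, true⟩) (lall (memL L) [7, 3, 5, 4, 3, 1, 2, 3, 8, 7, 3, 5, 4, 3, 1, 2, 3, 8, 7, 3, 5, 4, 3, 1, 2, 3, 8, 7, 3, 5, 4, 3, 1, 2, 3, 8, 7, 3, 5, 4, 3, 1, 2, 3, 8, 7, 3, 5, 4, 3, 1, 2, 3, 8, 7, 3, 5, 4, 3, 1, 2, 3, 8, 7, 3, 5, 4, 3, 1, 2, 3, 8, 7, 3, 5, 4, 3, 1, 2, 3, 8, 7, 3, 5, 4, 3, 1, 2, 3]) = true := by decide +kernel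

theorem rot8_10 : T.rot 8 [3, 2, 1, 3, 4, 5, 3, 7, 8, 3, 2, 1, 3, 4, 5, 3, 7, 8, 3, 2, 1, 3, 4, 5, 3, 7, 8, 3, 2, 1, 3, 4, 5, 3, 7, 8, 3, 2, 1, 3, 4, 5, 3, 7, 8, 3, 2, 1, 3, 4, 5, 3, 7, 8, 3, 2, 1, 3, 4, 5, 3, 7, 8, 3, 2, 1, 3, 4, 5, 3, 7, 8, 3, 2, 1, 3, 4, 5, 3, 7, 8, 3, 2, 1, 3, 4, 5, 3, 7] (sel (ones 3159) ip8 10) = true := by decide +kernel

theorem rot8_10r : band (Rule.ok (2 * 8) EX RL ⟨8 :: [3, 2, 1, 3, 4, 5, 3, 7, 8, 3, 2, 1, 3, 4, 5, 3, 7, 8, 3, 2, 1, 3, 4, 5, 3, 7, 8, 3, 2, 1, 3, 4, 5, 3, 7, 8, 3, 2, 1, 3, 4, 5, 3, 7, 8, 3, 2, 1, 3, 4, 5, 3, 7, 8, 3, 2, 1, 3, 4, 5, 3, 7, 8, 3, 2, 1, 3, 4, 5, 3, 7, 8, 3, 2, 1, 3, 4, 5, 3, 7, 8, 3, 2, 1, 3, 4, 5, 3, 7], [14], 28, false⟩) (lall (memL L) [3, 2, 1, 3, 4, 5, 3, 7, 8, 3, 2, 1, 3, 4, 5, 3, 7, 8, 3, 2, 1, 3, 4, 5, 3, 7, 8, 3, 2, 1, 3, 4, 5, 3, 7, 8, 3, 2, 1, 3, 4, 5, 3, 7, 8, 3, 2, 1, 3,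 4, 5, 3, 7, 8, 3, 2, 1, 3, 4, 5, 3, 7, 8, 3, 2, 1, 3, 4, 5, 3, 7, 8, 3, 2, 1, 3, 4, 5, 3, 7, 8, 3, 2, 1, 3, 4, 5, 3, 7]) = true := by decide +kernel

theorem cov8 : T.cover 8 [(sel (ones 3159) ip8 1), (sel (ones 3159) ip8 2), (sel (ones 3159) ip8 3), (sel (ones 3159) ip8 4), (sel (ones 3159) ip8 5), (sel (ones 3159) ip8 6), (sel (ones 3159) ip8 7), (sel (ones 3159) ip8 8), (sel (ones 3159) ip8 9), (sel (ones 3159) ip8 10)] = true := by decide +kernel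

theorem tl8 : T.treeLt 12 8 = true := by decide +kernel

end Cfsg.Agent.Spor.Fi3159
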